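import Cfsg.Agent.Omega.EK3.Rank

/-!
# THEOREM EXN (helper736, bb OMEGA #23252), part (4): the end

`O` is a 2-group (`O₂(D)`), `L i` the minimal parabolics moving the centre `Z i`, `N i = ⟨Z_i^⟨D, L i⟩⟩ ≤ O`,
`Q i = O ⊓ C(N i)`, `X i j ≤ N j` is `L i`-invariant with `(NO)` (`X i j = ⟨Z_j^(C_{Y_j}(V_i))⟩`).

* `Base`, `Sit` : the situation;  `pi j A = C_A(N_j) N_j`;
* `Good O L N i j` : `pi j` is `L i`-equivariant on `AA(Q i)` (GOOD_ji of helper23's THEOREM GI #22946);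
* `good_of_norm`, `good_of_cent`, `good_of_flat` : GI (4)(a), (b), (c);
* **`Base.exn`** : if all `i ≠ j` are good, then `⟨⋂ AA(Q i)⟩ ≠ 1` is normalised by `D` and all `L i` (GI (3));
* **`Sit.exists_bad`** : GI (5).
-/

set_option autoImplicit false
set_option linter.unusedSectionVars false

namespace Cfsg.Agent.Omega.EXN

open Subgroup Cfsg Cfsg.Agent.ZN Cfsg.Agent.Omega.MinPar
open Cfsg.Agent.Omega.NO3S.EThree Cfsg.Agent.Omega.NO3S.EThree.ExactA Cfsg.Agent.Omega.EK3.Rank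
open Cfsg.Agent.ZN.ChoiceBase (AA mm mm_eq mem_AA_iff AA_nonempty card_le_mm cj cj_mem_AA mm_cj mm_mono
  cj_inf cj_centralizer card_cj cj_mono cj_inv_cj cj_cj_inv cj_eq_of_mem_normalizer mem_cj cj_le_iff
  isElementaryAbelian_cj cj_cj)
open Cfsg.Agent.Omega.NoFF.Basic (comm_symm comm_mono)
open Cfsg.Agent.Omega.NO3S.ML (card_mul_relIndex card_sup_mul_of_comm)

universe u v

/-- The situation of THEOREM EXN / GI (without the groups `X i j`). -/
structure Base {G : Type u} [Group G] {ι : Type v} (D O : Subgroup G) (Z L N : ι → Subgroup G) : Prop where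
  OD : O ≤ D
  nO : D ≤ normalizer (O : Set G)
  Oz : ∀ i, O ≤ centralizer (Z i : Set G)
  eN : ∀ i, IsElementaryAbelian 2 (N i)
  NO : ∀ i, N i ≤ O
  nN : ∀ i, D ≤ normalizer (N i : Set G)
  minN : ∀ i (U : Subgroup G), Z i ≤ U → D ≤ normalizer (U : Set G) → L i ≤ normalizer (U : Set G) → N i ≤ U
  nQ : ∀ i, L i ≤ normalizer ((O ⊓ centralizer (N i : Set G) : Subgroup G) : Set G)
  no : ∀ i, NoOn O (N i)

/-- The situation of THEOREM EXN. -/
structure Sit {G : Type u} [Group G] {ι : Type v} (D O : Subgroup G) (Z L N : ι → Subgroup G)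
    (X : ι → ι → Subgroup G) : Prop extends Base D O Z L N where
  XN : ∀ i j, i ≠ j → X i j ≤ N j
  nX : ∀ i j, i ≠ j → L i ≤ normalizer (X i j : Set G)
  noX : ∀ i j, i ≠ j → NoOn O (X i j)

variable {G : Type u} [Group G] {ι : Type v}

/-- `C_A(N_j) N_j` -/
def pi (N : ι → Subgroup G) (j : ι) (A : Subgroup G) : Subgroup G := (A ⊓ centralizer (N j : Set G)) ⊔ N j

/-- `Q_j` -/
abbrev QQ (O : Subgroup G) (N : ι → Subgroup G) (j : ι) : Subgroup G := O ⊓ centralizer (N j : Set G)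

theorem cj_sup (g : G) (A B : Subgroup G) : cj g (A ⊔ B) = cj g A ⊔ cj g B := Subgroup.map_sup _ _ _

/-- invariance under conjugation gives normality -/
theorem le_normalizer_of_cj {H U : Subgroup G} (h : ∀ g ∈ H, cj g U ≤ U) : H ≤ normalizer (U : Set G) := by
  intro g hg
  rw [mem_normalizer_iff]
  intro x
  constructor
  · intro hx
    apply h g hg
    rw [mem_cj]
    have e : g⁻¹ * (g * x * g⁻¹) * g = x := by group
    rwa [e]
  · intro hx
    have h1 := h g⁻¹ (inv_mem hg)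
    have h2 : g⁻¹ * (g * x * g⁻¹) * g⁻¹⁻¹ ∈ U := by
      apply h1
      rw [mem_cj]
      have e : g⁻¹⁻¹ * (g⁻¹ * (g * x * g⁻¹) * g⁻¹⁻¹) * g⁻¹ = g * x * g⁻¹ := by group
      rwa [e]
    have e : g⁻¹ * (g * x * g⁻¹) * g⁻¹⁻¹ = x := by group
    rwa [e] at h2

/-- the join of a family invariant under conjugation by `H` is normalised by `H` -/
theorem le_normalizer_sSup {H : Subgroup G} {s : Set (Subgroup G)} (h : ∀ g ∈ H, ∀ A ∈ s, cj g A ∈ s) :
    H ≤ normalizer ((sSup s : Subgroup G) : Set G) := by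
  refine le_normalizer_of_cj fun g hg => ?_
  rw [cj_le_iff]
  refine sSup_le fun A hA => ?_
  rw [← cj_le_iff]
  exact le_sSup (h g hg A hA)

/-- the pair `(i, j)` is good: `pi j` is `L i`-equivariant on `AA(Q i)` (GOOD_ji of #22946). -/
def Good (O : Subgroup G) (L N : ι → Subgroup G) (i j : ι) : Prop :=
  ∀ A ∈ AA (QQ O N i), ∀ g ∈ L i, pi N j (cj g A) = cj g (pi N j A)

namespace Base

variable {D O : Subgroup G} {Z L N : ι → Subgroup G} (h : Base D O Z L N)
include h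

theorem nDQ (i : ι) : D ≤ normalizer ((QQ O N i : Subgroup G) : Set G) := by
  intro d hd
  refine le_normalizer_of_cj (H := D) (fun g hg => ?_) hd
  rw [QQ, cj_inf, cj_centralizer, cj_eq_of_mem_normalizer (h.nO hg), cj_eq_of_mem_normalizer (h.nN i hg)]

variable [Finite G]

theorem pi_mem {j : ι} {A : Subgroup G} (hA : A ∈ AA O) : pi N j A ∈ AA (QQ O N j) :=
  exch_inf (h.eN j) (h.NO j) (h.no j) hA

theorem AA_le {j : ι} {A : Subgroup G} (hA : A ∈ AA (QQ O N j)) : A ∈ AA O :=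
  mem_AA_of_inf (h.eN j) (h.NO j) (h.no j) hA

/-- `pi j A = A` for `A ∈ AA(Q_j)` -/
theorem pi_eq {j : ι} {A : Subgroup G} (hA : A ∈ AA (QQ O N j)) : pi N j A = A := by
  have h1 : N j ≤ A := le_of_mem_inf (h.eN j) (h.NO j) (h.no j) hA
  rw [pi, inf_eq_left.2 (hA.2.1.trans inf_le_right)]
  exact sup_eq_left.2 h1

/-- `cj g A ∈ AA(Q_i)` -/
theorem cj_mem {i : ι} {g : G} (hg : g ∈ normalizer ((QQ O N i : Subgroup G) : Set G)) {A : Subgroup G}
    (hA : A ∈ AA (QQ O N i)) : cj g A ∈ AA (QQ O N i) := by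
  have := cj_mem_AA g hA
  rwa [cj_eq_of_mem_normalizer hg] at this

theorem pi_cj_D {j : ι} {A : Subgroup G} {g : G} (hg : g ∈ D) : pi N j (cj g A) = cj g (pi N j A) := by
  have hN := cj_eq_of_mem_normalizer (h.nN j hg)
  rw [pi, pi, cj_sup, cj_inf, cj_centralizer, hN]

/-- a subgroup of `O` normalised by `D` and `L i` is in `Q i` -/
theorem le_QQ_of {i : ι} {U : Subgroup G} (hU : U ≤ O) (hD : D ≤ normalizer (U : Set G))
    (hL : L i ≤ normalizer (U : Set G)) : U ≤ QQ O N i := by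
  refine le_inf hU ?_
  have hcn : normalizer (U : Set G) ≤ normalizer ((centralizer (U : Set G) : Subgroup G) : Set G) := by
    refine le_normalizer_of_cj fun g hg => ?_
    rw [cj_centralizer, cj_eq_of_mem_normalizer hg]
  have h1 := h.minN i (centralizer (U : Set G)) ?_ (hD.trans hcn) (hL.trans hcn)
  · exact comm_symm h1
  · exact comm_symm (hU.trans (h.Oz i))

/-- (4)(a) of #22946: `L i` normalises `N j` -/
theorem good_of_norm {i j : ι} (hn : L i ≤ normalizer (N j : Set G)) : Good O L N i j := by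
  intro A _ g hg
  have hN := cj_eq_of_mem_normalizer (hn hg)
  rw [pi, pi, cj_sup, cj_inf, cj_centralizer, hN]

/-- (4)(b) of #22946: the members of `AA(Q i)` centralise `N j` -/
theorem good_of_cent {i j : ι} (hc : ∀ A ∈ AA (QQ O N i), A ≤ centralizer (N j : Set G)) : Good O L N i j := by
  intro A hA g hg
  have h1 : ∀ B ∈ AA (QQ O N i), pi N j B = B := fun B hB =>
    h.pi_eq (mem_inf_of_mem_AA (h.eN j) (h.NO j) (h.no j) (h.AA_le hB) (hc B hB))
  rw [h1 A hA, h1 _ (h.cj_mem (h.nQ i hg) hA)]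

/-- `pi j` maps `AA(Q i)` to `AA(Q i) ∩ AA(Q j)` -/
theorem pi_mem_i {i j : ι} (hij : Good O L N i j) {A : Subgroup G} (hA : A ∈ AA (QQ O N i)) :
    pi N j A ∈ AA (QQ O N i) := by
  set s : Set (Subgroup G) := {B | ∃ A ∈ AA (QQ O N i), B = pi N j A} with hs
  have hO : sSup s ≤ O := by
    refine sSup_le ?_
    rintro _ ⟨A, hA, rfl⟩
    exact (h.pi_mem (j := j) (h.AA_le hA)).2.1.trans inf_le_left
  have hD : D ≤ normalizer ((sSup s : Subgroup G) : Set G) := by
    refine le_normalizer_sSup ?_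
    rintro g hg _ ⟨A, hA, rfl⟩
    exact ⟨_, h.cj_mem (h.nDQ i hg) hA, (h.pi_cj_D hg).symm⟩
  have hL : L i ≤ normalizer ((sSup s : Subgroup G) : Set G) := by
    refine le_normalizer_sSup ?_
    rintro g hg _ ⟨A, hA, rfl⟩
    exact ⟨_, h.cj_mem (h.nQ i hg) hA, (hij A hA g hg).symm⟩
  have h1 := h.le_QQ_of hO hD hL
  have h2 : pi N j A ∈ s := ⟨A, hA, rfl⟩
  exact mem_inf_of_mem_AA (h.eN i) (h.NO i) (h.no i) (h.AA_le (h.pi_mem (h.AA_le hA)))
    (((le_sSup h2).trans h1).trans inf_le_right)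

/-- a good pair: `N j ≤ Q i` -/
theorem N_le {i j : ι} (hij : Good O L N i j) : N j ≤ QQ O N i := by
  obtain ⟨A, hA⟩ := AA_nonempty (QQ O N i)
  exact (le_sup_right : N j ≤ pi N j A).trans (h.pi_mem_i hij hA).2.1

/-- `⋂ AA(Q_i)` over a finite set of indices is not empty -/
theorem exists_mem (good : ∀ i j, i ≠ j → Good O L N i j) (s : Finset ι) :
    ∃ A ∈ AA O, ∀ i ∈ s, A ∈ AA (QQ O N i) := by
  classical
  induction s using Finset.induction_on with
  | empty =>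
    obtain ⟨A, hA⟩ := AA_nonempty O
    exact ⟨A, hA, by simp⟩
  | insert j s hj ih =>
    obtain ⟨A, hA, h1⟩ := ih
    refine ⟨pi N j A, h.AA_le (h.pi_mem hA), fun i hi => ?_⟩
    rcases Finset.mem_insert.1 hi with rfl | hi
    · exact h.pi_mem hA
    · exact h.pi_mem_i (good i j fun e : i = j => hj (by rwa [← e])) (h1 i hi)

/-- **THEOREM EXN (4) = THEOREM GI #22946 (3): all pairs good.** -/
theorem exn [Finite ι] (good : ∀ i j, i ≠ j → Good O L N i j) (hO : ∃ x ∈ O, x ≠ 1 ∧ x ^ 2 = 1) :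
    ∃ U : Subgroup G, U ≠ ⊥ ∧ U ≤ O ∧ D ≤ normalizer (U : Set G) ∧ ∀ i, L i ≤ normalizer (U : Set G) := by
  classical
  have := Fintype.ofFinite ι
  set s : Set (Subgroup G) := {A | A ∈ AA O ∧ ∀ i, A ∈ AA (QQ O N i)} with hs
  obtain ⟨A, hA, hAi⟩ := h.exists_mem good Finset.univ
  have hAs : A ∈ s := ⟨hA, fun i => hAi i (Finset.mem_univ i)⟩
  have hle : sSup s ≤ O := sSup_le fun B hB => hB.1.2.1
  refine ⟨sSup s, ?_, hle, ?_, fun i => ?_⟩
  · intro h0
    obtain ⟨x, hx, hx1, hx2⟩ := hO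
    have h1 : A = ⊥ := le_bot_iff.1 ((le_sSup hAs).trans h0.le)
    have h2 : IsElementaryAbelian 2 (zpowers x : Subgroup G) := by
      rw [eab_iff]
      refine ⟨?_, ?_⟩
      · intro y hy
        obtain ⟨n, rfl⟩ := mem_zpowers_iff.1 hy
        rw [mem_centralizer_iff]
        intro w hw
        obtain ⟨m, rfl⟩ := mem_zpowers_iff.1 hw
        rw [← zpow_add, ← zpow_add, add_comm]
      · intro y hy
        obtain ⟨n, rfl⟩ := mem_zpowers_iff.1 hy
        rw [← zpow_natCast, ← zpow_mul, mul_comm, zpow_mul, zpow_natCast, hx2, one_zpow]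
    have h3 := hA.2.2 _ h2 (by rwa [zpowers_le])
    rw [h1, card_bot] at h3
    have h4 : (zpowers x : Subgroup G) = ⊥ := Subgroup.eq_bot_of_card_le _ h3
    exact hx1 (zpowers_eq_bot.1 h4)
  · refine le_normalizer_sSup fun g hg B hB => ?_
    refine ⟨?_, fun i => h.cj_mem (h.nDQ i hg) (hB.2 i)⟩
    have := cj_mem_AA g hB.1
    rwa [cj_eq_of_mem_normalizer (h.nO hg)] at this
  · refine le_normalizer_sSup fun g hg B hB => ?_
    have hBi := h.cj_mem (h.nQ i hg) (hB.2 i)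
    refine ⟨h.AA_le hBi, fun j => ?_⟩
    by_cases hij : i = j
    · rwa [← hij]
    · have h1 := good i j hij B (hB.2 i) g hg
      rw [h.pi_eq (hB.2 j)] at h1
      rw [← h1]
      exact h.pi_mem (h.AA_le hBi)

end Base

namespace Sit

variable {D O : Subgroup G} {Z L N : ι → Subgroup G} {X : ι → ι → Subgroup G} (h : Sit D O Z L N X)
include h

variable [Finite G]

/-- the second form of `pi` -/
theorem pi_eq_X {i j : ι} (hij : i ≠ j) {A : Subgroup G} (hA : A ∈ AA (QQ O N i))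
    (hf : A ⊓ centralizer (X i j : Set G) ≤ centralizer (N j : Set G)) :
    pi N j A = (A ⊓ centralizer (X i j : Set G)) ⊔ X i j := by
  have hAO := h.AA_le hA
  have hXN := h.XN i j hij
  have hXe : IsElementaryAbelian 2 (X i j) := eab_mono (h.eN j) hXN
  have hc : A ⊓ centralizer (X i j : Set G) = A ⊓ centralizer (N j : Set G) :=
    le_antisymm (le_inf inf_le_left hf) (inf_le_inf_left _ (centralizer_le hXN))
  have h1 := (exch hXe (hXN.trans (h.NO j)) (h.noX i j hij) hAO).2.2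
  have h2 := (exch (h.eN j) (h.NO j) (h.no j) hAO).2.2
  have h3 : (A ⊓ centralizer (X i j : Set G)) ⊔ X i j ≤ pi N j A := by
    rw [pi, hc]
    exact sup_le_sup_left hXN _
  refine (Subgroup.eq_of_le_of_card_ge h3 ?_).symm
  exact h1.2.2 _ h2.1 h2.2.1

/-- (4)(c) of #22946 = FAIL: the pair is good -/
theorem good_of_flat {i j : ι} (hij : i ≠ j)
    (flat : ∀ A ∈ AA (QQ O N i), A ⊓ centralizer (X i j : Set G) ≤ centralizer (N j : Set G)) : Good O L N i j := by
  intro A hA g hg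
  have hA' := h.cj_mem (h.nQ i hg) hA
  have hX := cj_eq_of_mem_normalizer (h.nX i j hij hg)
  rw [h.pi_eq_X hij hA (flat A hA), h.pi_eq_X hij hA' (flat _ hA'), cj_sup, cj_inf, cj_centralizer, hX]

/-- **THEOREM EXN (4).** -/
theorem exn [Finite ι] (hO : ∃ x ∈ O, x ≠ 1 ∧ x ^ 2 = 1) (flat : ∀ i j, i ≠ j → ∀ A ∈ AA (QQ O N i),
      A ⊓ centralizer (X i j : Set G) ≤ centralizer (N j : Set G)) : ∃ U : Subgroup G, U ≠ ⊥ ∧ U ≤ O ∧
    D ≤ normalizer (U : Set G) ∧ ∀ i, L i ≤ normalizer (U : Set G) :=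
  h.toBase.exn (fun i j hij => h.good_of_flat hij (flat i j hij)) hO

/-- **THEOREM GI #22946 (5), the output.** If `⟨D, L i⟩` normalise no `1 ≠ U ≤ O`, then for some `i ≠ j`: `L i` does not
normalise `N j` and some `A ∈ AA(Q i)` has `C_A(X i j)` moving `N j`. -/
theorem exists_bad [Finite ι] (hO : ∃ x ∈ O, x ≠ 1 ∧ x ^ 2 = 1)
    (non : ∀ U : Subgroup G, U ≤ O → D ≤ normalizer (U : Set G) → (∀ i, L i ≤ normalizer (U : Set G)) → U = ⊥) :
    ∃ i j, i ≠ j ∧ ¬ L i ≤ normalizer (N j : Set G) ∧ ∃ A ∈ AA (QQ O N i), A ∈ AA O ∧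
      ¬ A ⊓ centralizer (X i j : Set G) ≤ centralizer (N j : Set G) := by
  by_contra hc
  push Not at hc
  have hg : ∀ i j, i ≠ j → Good O L N i j := by
    intro i j hij
    by_cases hn : L i ≤ normalizer (N j : Set G)
    · exact h.good_of_norm hn
    · exact h.good_of_flat hij fun A hA => hc i j hij hn A hA (h.AA_le hA)
  obtain ⟨U, h1, h2, h3, h4⟩ := h.toBase.exn hg hO
  exact h1 (non U h2 h3 h4)

end Sit

end Cfsg.Agent.Omega.EXN
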