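import Cfsg.Agent.Omega.EXN.End

/-!
# THEOREM EXN (helper736, bb OMEGA #23252), parts (1)-(3)

`E i j = ⟨Z^⟨D, L i, L j⟩⟩ ≤ O` elementary abelian (at least three centres: `⟨Y_i, Y_j⟩` is in a local group).

* `Big` : the situation, with the socket `kl` (THEOREM KL*): no minimal offender `F ≤ O` on `E i j` which centralises
  `X i j` moves `N j`;
* `exact_of` : what the consumer of `kl` gets: `E = N_j C_E(F)`, `C_F(N_j) = C_F(E)`, the three indices;
* `Big.star` : a minimal offender on `E i j` which moves `N j` moves `X i j`;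
* `Big.empty` : no minimal offender on `E i j` is in `Q i ∩ Q j`;
* `Big.flat` : `C_A(X i j) = C_A(N j)` for `A ∈ AA(Q i)`;
* **`Big.exn`** : `⟨D, L i⟩` normalises a nontrivial subgroup of `O`.
-/

set_option autoImplicit false
set_option linter.unusedSectionVars false

namespace Cfsg.Agent.Omega.EXN

open Subgroup Cfsg Cfsg.Agent.ZN Cfsg.Agent.Omega.MinPar
open Cfsg.Agent.Omega.NO3S.EThree Cfsg.Agent.Omega.NO3S.EThree.ExactA Cfsg.Agent.Omega.EK3.Rank
open Cfsg.Agent.ZN.ChoiceBase (AA mm mm_eq mem_AA_iff AA_nonempty card_le_mm cj cj_mem_AA mm_cj mm_mono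
  cj_inf cj_centralizer card_cj cj_mono cj_inv_cj cj_cj_inv cj_eq_of_mem_normalizer mem_cj cj_le_iff
  isElementaryAbelian_cj cj_cj)
open Cfsg.Agent.Omega.NoFF.Basic (comm_symm comm_mono)
open Cfsg.Agent.Omega.NO3S.ML (card_mul_relIndex card_sup_mul_of_comm)

universe u v

variable {G : Type u} [Group G] {ι : Type v}

/-! ### conjugation of offenders -/

theorem relIndex_cj (g : G) (A B : Subgroup G) : (cj g A).relIndex (cj g B) = A.relIndex B :=
  Subgroup.relIndex_map_map_of_injective A B (MulAut.conj g).injective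

theorem offd_cj {E F : Subgroup G} (h : Offd E F) {g : G} (hg : g ∈ normalizer (E : Set G)) : Offd E (cj g F) := by
  have hE := cj_eq_of_mem_normalizer hg
  refine ⟨?_, fun hc => h.mov ?_, ?_⟩
  · intro x hx
    rw [mem_cj] at hx
    have h1 := mul_mem (mul_mem hg (h.norm hx)) (inv_mem hg)
    have e : g * (g⁻¹ * x * g) * g⁻¹ = x := by group
    rwa [e] at h1
  · have h1 : cj g F ≤ cj g (centralizer (E : Set G)) := by rwa [cj_centralizer, hE]
    have h2 := cj_mono g⁻¹ h1
    rwa [cj_inv_cj, cj_inv_cj] at h2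
  · have e1 : (centralizer (cj g F : Set G)).relIndex E = (centralizer (F : Set G)).relIndex E := by
      rw [← cj_centralizer]
      conv_lhs => rw [← hE]
      exact relIndex_cj g _ _
    have e2 : (centralizer (E : Set G)).relIndex (cj g F) = (centralizer (E : Set G)).relIndex F := by
      conv_lhs => rw [← hE, ← cj_centralizer]
      exact relIndex_cj g _ _
    rw [e1, e2]
    exact h.le

theorem minOff_cj {E F : Subgroup G} (h : MinOff E F) {g : G} (hg : g ∈ normalizer (E : Set G)) :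
    MinOff E (cj g F) := by
  have hE := cj_eq_of_mem_normalizer hg
  refine ⟨offd_cj h.toOffd hg, fun B hB hBo => ?_⟩
  have h1 : cj g⁻¹ B ≤ F := by
    have := cj_mono g⁻¹ hB
    rwa [cj_inv_cj] at this
  have h2 := h.min _ h1 (offd_cj hBo (inv_mem hg))
  have e : ∀ (x : G) (_ : x ∈ normalizer (E : Set G)) (C : Subgroup G),
      (centralizer (E : Set G)).relIndex (cj x C) = (centralizer (E : Set G)).relIndex C := by
    intro x hx C
    have hE := cj_eq_of_mem_normalizer hx
    conv_lhs => rw [← hE, ← cj_centralizer]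
    exact relIndex_cj x _ _
  rw [e g hg, ← e g⁻¹ (inv_mem hg) B]
  exact h2

variable [Finite G]

/-! ### a subgroup of an offender centralising `V` -/

/-- (1)(b): `F` offends on `E`, `V ≤ E` with `(NO)` for `F`: if `C_F(V)` moves `E`, it offends on `E`. -/
theorem offd_inf {E V F : Subgroup G} (hF : F ≤ normalizer (E : Set G))
    (hle : (centralizer (F : Set G)).relIndex E ≤ (centralizer (E : Set G)).relIndex F) (hVE : V ≤ E)
    (hno : (centralizer (V : Set G)).relIndex F ≤ (centralizer (F : Set G)).relIndex V)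
    (hm : ¬ F ⊓ centralizer (V : Set G) ≤ centralizer (E : Set G)) : Offd E (F ⊓ centralizer (V : Set G)) := by
  refine ⟨inf_le_left.trans hF, hm, ?_⟩
  have h1 := mul_relIndex_le (N := E) (V := V) (A := F) (B := F ⊓ centralizer (V : Set G)) hVE inf_le_left inf_le_right
  have h2 := relIndex_eq_mul (N := E) (V := V) (A := F) hVE
  have hV0 : 0 < (centralizer (F : Set G)).relIndex V := Nat.pos_of_ne_zero index_ne_zero_of_finite
  refine Nat.le_of_mul_le_mul_left (h1.trans (hle.trans ?_)) hV0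
  rw [h2, mul_comm]
  exact Nat.mul_le_mul_right _ hno

/-- (1)(b) for a minimal offender: `F` centralises `V`. -/
theorem minOff_le {E V F : Subgroup G} (h : MinOff E F) (hVE : V ≤ E)
    (hno : (centralizer (V : Set G)).relIndex F ≤ (centralizer (F : Set G)).relIndex V)
    (hm : ¬ F ⊓ centralizer (V : Set G) ≤ centralizer (E : Set G)) : F ≤ centralizer (V : Set G) := by
  have h1 := h.min _ inf_le_left (offd_inf h.norm h.le hVE hno hm)
  have h2 := relIndex_eq_mul (N := E) (V := V) (A := F) hVE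
  have h3 : 0 < (centralizer (E : Set G)).relIndex (F ⊓ centralizer (V : Set G)) :=
    Nat.pos_of_ne_zero index_ne_zero_of_finite
  have h4 : (centralizer (V : Set G)).relIndex F ≤ 1 := by
    rw [h2] at h1
    refine Nat.le_of_mul_le_mul_left ?_ h3
    rwa [mul_one]
  have h5 : (centralizer (V : Set G)).relIndex F ≠ 0 := index_ne_zero_of_finite
  exact relIndex_eq_one.1 (by omega)

/-- (1)(a), for the consumer of `kl`. -/
theorem exact_of {O E N F : Subgroup G} (hF : IsElementaryAbelian 2 F) (hFO : F ≤ O) (h : MinOff E F) (hNE : N ≤ E)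
    (hno : NoOn O N) (hm : ¬ F ≤ centralizer (N : Set G)) :
    F ⊓ centralizer (N : Set G) ≤ centralizer (E : Set G) ∧ E ≤ N ⊔ (E ⊓ centralizer (F : Set G)) ∧
      (centralizer (E : Set G)).relIndex F = (centralizer (F : Set G)).relIndex N ∧
      (centralizer (F : Set G)).relIndex E = (centralizer (F : Set G)).relIndex N ∧
      (centralizer (N : Set G)).relIndex F = (centralizer (F : Set G)).relIndex N := by
  have hle := hno F hF hFO
  exact ⟨h.inf_le hNE hm hle, h.le_sup hNE hm hle, h.relIndex_eq hNE hm hle⟩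

/-! ### The situation -/

/-- The situation of THEOREM EXN with at least three centres. -/
structure Big (D O : Subgroup G) (Z L N : ι → Subgroup G) (X E : ι → ι → Subgroup G) : Prop
    extends Sit D O Z L N X where
  eE : ∀ i j, i ≠ j → IsElementaryAbelian 2 (E i j)
  EO : ∀ i j, i ≠ j → E i j ≤ O
  NE : ∀ i j, i ≠ j → N j ≤ E i j
  symm : ∀ i j, E i j = E j i
  DE : ∀ i j, i ≠ j → D ≤ normalizer (E i j : Set G)
  LE : ∀ i j, i ≠ j → L i ≤ normalizer (E i j : Set G)
  minE : ∀ i j, i ≠ j → ∀ U : Subgroup G, (∀ l, Z l ≤ U) → D ≤ normalizer (U : Set G) →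
    L i ≤ normalizer (U : Set G) → L j ≤ normalizer (U : Set G) → E i j ≤ U
  kl : ∀ i j, i ≠ j → ∀ F : Subgroup G, IsElementaryAbelian 2 F → F ≤ O → MinOff (E i j) F →
    F ≤ centralizer (X i j : Set G) → F ≤ centralizer (N j : Set G)

namespace Big

variable {D O : Subgroup G} {Z L N : ι → Subgroup G} {X E : ι → ι → Subgroup G} (h : Big D O Z L N X E)
include h

/-- (*) -/
theorem star {i j : ι} (hij : i ≠ j) {F : Subgroup G} (hF : IsElementaryAbelian 2 F) (hFO : F ≤ O)
    (hm : MinOff (E i j) F) (hN : ¬ F ≤ centralizer (N j : Set G)) : ¬ F ≤ centralizer (X i j : Set G) :=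
  fun hc => hN (h.kl i j hij F hF hFO hm hc)

/-- `cj g` preserves the minimal offenders in `Q i` which centralise `N j` -/
theorem cj_cent {i j : ι} (hij : i ≠ j) {F : Subgroup G} (hF : IsElementaryAbelian 2 F) (hFQ : F ≤ QQ O N i)
    (hm : MinOff (E i j) F) (hN : F ≤ centralizer (N j : Set G)) {g : G} (hg : g ∈ L i) :
    IsElementaryAbelian 2 (cj g F) ∧ cj g F ≤ QQ O N i ∧ MinOff (E i j) (cj g F) ∧
      cj g F ≤ centralizer (N j : Set G) := by
  have h1 : IsElementaryAbelian 2 (cj g F) := isElementaryAbelian_cj g hF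
  have h2 : cj g F ≤ QQ O N i := by
    have := cj_mono g hFQ
    rwa [cj_eq_of_mem_normalizer (h.nQ i hg)] at this
  have h3 : MinOff (E i j) (cj g F) := minOff_cj hm (h.LE i j hij hg)
  refine ⟨h1, h2, h3, ?_⟩
  by_contra hc
  apply h.star hij h1 (h2.trans inf_le_left) h3 hc
  have h4 : F ≤ centralizer (X i j : Set G) := hN.trans (centralizer_le (h.XN i j hij))
  have h5 := cj_mono g h4
  rwa [cj_centralizer, cj_eq_of_mem_normalizer (h.nX i j hij hg)] at h5

/-- (2) -/
theorem empty {i j : ι} (hij : i ≠ j) {F : Subgroup G} (hF : IsElementaryAbelian 2 F) (hFO : F ≤ O)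
    (hm : MinOff (E i j) F) (hi : F ≤ centralizer (N i : Set G)) (hj : F ≤ centralizer (N j : Set G)) : False := by
  set s : Set (Subgroup G) := {F | IsElementaryAbelian 2 F ∧ F ≤ O ∧ MinOff (E i j) F ∧
    F ≤ centralizer (N i : Set G) ∧ F ≤ centralizer (N j : Set G)} with hs
  have hFs : F ∈ s := ⟨hF, hFO, hm, hi, hj⟩
  have hle : sSup s ≤ O := sSup_le fun B hB => hB.2.1
  have hL : ∀ {i j : ι}, i ≠ j → ∀ g ∈ L i, ∀ A : Subgroup G, (IsElementaryAbelian 2 A ∧ A ≤ O ∧ MinOff (E i j) A ∧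
      A ≤ centralizer (N i : Set G) ∧ A ≤ centralizer (N j : Set G)) → (IsElementaryAbelian 2 (cj g A) ∧ cj g A ≤ O ∧
        MinOff (E i j) (cj g A) ∧ cj g A ≤ centralizer (N i : Set G) ∧ cj g A ≤ centralizer (N j : Set G)) := by
    intro i j hij g hg A hA
    obtain ⟨h1, h2, h3, h4⟩ := h.cj_cent hij hA.1 (le_inf hA.2.1 hA.2.2.2.1) hA.2.2.1 hA.2.2.2.2 hg
    exact ⟨h1, h2.trans inf_le_left, h3, h2.trans inf_le_right, h4⟩
  have h1 : D ≤ normalizer ((sSup s : Subgroup G) : Set G) := by
    refine le_normalizer_sSup fun g hg A hA => ?_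
    refine ⟨isElementaryAbelian_cj g hA.1, ?_, minOff_cj hA.2.2.1 (h.DE i j hij hg), ?_, ?_⟩
    · have := cj_mono g hA.2.1
      rwa [cj_eq_of_mem_normalizer (h.nO hg)] at this
    · have := cj_mono g hA.2.2.2.1
      rwa [cj_centralizer, cj_eq_of_mem_normalizer (h.nN i hg)] at this
    · have := cj_mono g hA.2.2.2.2
      rwa [cj_centralizer, cj_eq_of_mem_normalizer (h.nN j hg)] at this
  have h2 : L i ≤ normalizer ((sSup s : Subgroup G) : Set G) := le_normalizer_sSup fun g hg A hA => hL hij g hg A hA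
  have h3 : L j ≤ normalizer ((sSup s : Subgroup G) : Set G) := by
    refine le_normalizer_sSup fun g hg A hA => ?_
    have hA' := hA.2.2.1
    rw [h.symm i j] at hA'
    obtain ⟨e1, e2, e3, e4, e5⟩ := hL hij.symm g hg A ⟨hA.1, hA.2.1, hA', hA.2.2.2.2, hA.2.2.2.1⟩
    rw [← h.symm i j] at e3
    exact ⟨e1, e2, e3, e5, e4⟩
  have hcn : ∀ {U : Subgroup G}, normalizer (U : Set G) ≤
      normalizer ((centralizer (U : Set G) : Subgroup G) : Set G) := by
    intro U
    refine le_normalizer_of_cj fun g hg => ?_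
    rw [cj_centralizer, cj_eq_of_mem_normalizer hg]
  have h4 := h.minE i j hij (centralizer ((sSup s : Subgroup G) : Set G))
    (fun l => comm_symm (hle.trans (h.Oz l))) (h1.trans hcn) (h2.trans hcn) (h3.trans hcn)
  exact hm.mov ((le_sSup hFs).trans (comm_symm h4))

/-- (3) -/
theorem flat {i j : ι} (hij : i ≠ j) {A : Subgroup G} (hA : A ∈ AA (QQ O N i)) :
    A ⊓ centralizer (X i j : Set G) ≤ centralizer (N j : Set G) := by
  by_contra hc
  have hAO := h.AA_le hA
  have hXE : X i j ≤ E i j := (h.XN i j hij).trans (h.NE i j hij)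
  have h1 : Offd (E i j) (A ⊓ centralizer (X i j : Set G)) := by
    refine offd_inf (hAO.2.1.trans (h.OD.trans (h.DE i j hij))) (le_of_mem (h.eE i j hij) (h.EO i j hij) hAO) hXE
      (h.noX i j hij A hAO.1 hAO.2.1) fun hc' => hc (hc'.trans (centralizer_le (h.NE i j hij)))
  obtain ⟨F, hFB, hF⟩ := h1.exists_min
  have hFA : F ≤ A := hFB.trans inf_le_left
  have hFe : IsElementaryAbelian 2 F := eab_mono hAO.1 hFA
  have hFO : F ≤ O := hFA.trans hAO.2.1
  have h2 := h.kl i j hij F hFe hFO hF (hFB.trans inf_le_right)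
  exact h.empty hij hFe hFO hF (hFA.trans (hA.2.1.trans inf_le_right)) h2

/-- **THEOREM EXN.** -/
theorem exn [Finite ι] (hO : ∃ x ∈ O, x ≠ 1 ∧ x ^ 2 = 1) : ∃ U : Subgroup G, U ≠ ⊥ ∧ U ≤ O ∧
    D ≤ normalizer (U : Set G) ∧ ∀ i, L i ≤ normalizer (U : Set G) :=
  h.toSit.exn hO fun _ _ hij _ hA => h.flat hij hA

end Big

end Cfsg.Agent.Omega.EXN
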