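import Cfsg.Agent.Omega.EXN.Off

/-!
# THEOREM EXN with a weaker socket (#23252, #24831)

As `EXN.Big`, but the socket `kl` (THEOREM KL*) is only asked for the offenders `F ≤ Q i = O ⊓ C(N i)`; these centralise
`V_i ≤ N i`, so the form of KL* with `A ≤ O₂(C(V_i))` (LEMMA MOV) applies.

* `BigW` : the situation;  **`BigW.exn`** : `⟨D, L i⟩` normalises a nontrivial subgroup of `O`.
-/

set_option autoImplicit false
set_option linter.unusedSectionVars false

namespace Cfsg.Agent.Omega.EXN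

open Subgroup Cfsg Cfsg.Agent.ZN Cfsg.Agent.Omega.MinPar
open Cfsg.Agent.Omega.NO3S.EThree Cfsg.Agent.Omega.NO3S.EThree.ExactA Cfsg.Agent.Omega.EK3.Rank
open Cfsg.Agent.ZN.ChoiceBase (AA mm mm_eq mem_AA_iff AA_nonempty card_le_mm cj cj_mem_AA mm_cj mm_mono
  cj_inf cj_centralizer card_cj cj_mono cj_inv_cj cj_cj_inv cj_eq_of_mem_normalizer mem_cj cj_le_iff
  isElementaryAbelian_cj cj_cj)
open Cfsg.Agent.Omega.NoFF.Basic (comm_symm comm_mono)
open Cfsg.Agent.Omega.NO3S.ML (card_mul_relIndex card_sup_mul_of_comm)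

universe u v

variable {G : Type u} [Group G] {ι : Type v} [Finite G]

/-! ### The situation -/

/-- The situation of THEOREM EXN with at least three centres, `kl` only for the offenders which centralise `N i`. -/
structure BigW (D O : Subgroup G) (Z L N : ι → Subgroup G) (X E : ι → ι → Subgroup G) : Prop
    extends Sit D O Z L N X where
  eE : ∀ i j, i ≠ j → IsElementaryAbelian 2 (E i j)
  EO : ∀ i j, i ≠ j → E i j ≤ O
  NE : ∀ i j, i ≠ j → N j ≤ E i j
  symm : ∀ i j, E i j = E j i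
  DE : ∀ i j, i ≠ j → D ≤ normalizer (E i j : Set G)
  LE : ∀ i j, i ≠ j → L i ≤ normalizer (E i j : Set G)
  minE : ∀ i j, i ≠ j → ∀ U : Subgroup G, (∀ l, Z l ≤ U) → D ≤ normalizer (U : Set G) →
    L i ≤ normalizer (U : Set G) → L j ≤ normalizer (U : Set G) → E i j ≤ U
  kl : ∀ i j, i ≠ j → ∀ F : Subgroup G, IsElementaryAbelian 2 F → F ≤ QQ O N i → MinOff (E i j) F →
    F ≤ centralizer (X i j : Set G) → F ≤ centralizer (N j : Set G)

namespace BigW

variable {D O : Subgroup G} {Z L N : ι → Subgroup G} {X E : ι → ι → Subgroup G} (h : BigW D O Z L N X E)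
include h

/-- (*) -/
theorem star {i j : ι} (hij : i ≠ j) {F : Subgroup G} (hF : IsElementaryAbelian 2 F) (hFO : F ≤ QQ O N i)
    (hm : MinOff (E i j) F) (hN : ¬ F ≤ centralizer (N j : Set G)) : ¬ F ≤ centralizer (X i j : Set G) :=
  fun hc => hN (h.kl i j hij F hF hFO hm hc)

/-- `cj g` preserves the minimal offenders in `Q i` which centralise `N j` -/
theorem cj_cent {i j : ι} (hij : i ≠ j) {F : Subgroup G} (hF : IsElementaryAbelian 2 F) (hFQ : F ≤ QQ O N i)
    (hm : MinOff (E i j) F) (hN : F ≤ centralizer (N j : Set G)) {g : G} (hg : g ∈ L i) :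
    IsElementaryAbelian 2 (cj g F) ∧ cj g F ≤ QQ O N i ∧ MinOff (E i j) (cj g F) ∧
      cj g F ≤ centralizer (N j : Set G) := by
  have h1 : IsElementaryAbelian 2 (cj g F) := isElementaryAbelian_cj g hF
  have h2 : cj g F ≤ QQ O N i := by
    have := cj_mono g hFQ
    rwa [cj_eq_of_mem_normalizer (h.nQ i hg)] at this
  have h3 : MinOff (E i j) (cj g F) := minOff_cj hm (h.LE i j hij hg)
  refine ⟨h1, h2, h3, ?_⟩
  by_contra hc
  apply h.star hij h1 h2 h3 hc
  have h4 : F ≤ centralizer (X i j : Set G) := hN.trans (centralizer_le (h.XN i j hij))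
  have h5 := cj_mono g h4
  rwa [cj_centralizer, cj_eq_of_mem_normalizer (h.nX i j hij hg)] at h5

/-- (2) -/
theorem empty {i j : ι} (hij : i ≠ j) {F : Subgroup G} (hF : IsElementaryAbelian 2 F) (hFO : F ≤ O)
    (hm : MinOff (E i j) F) (hi : F ≤ centralizer (N i : Set G)) (hj : F ≤ centralizer (N j : Set G)) : False := by
  set s : Set (Subgroup G) := {F | IsElementaryAbelian 2 F ∧ F ≤ O ∧ MinOff (E i j) F ∧
    F ≤ centralizer (N i : Set G) ∧ F ≤ centralizer (N j : Set G)} with hs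
  have hFs : F ∈ s := ⟨hF, hFO, hm, hi, hj⟩
  have hle : sSup s ≤ O := sSup_le fun B hB => hB.2.1
  have hL : ∀ {i j : ι}, i ≠ j → ∀ g ∈ L i, ∀ A : Subgroup G, (IsElementaryAbelian 2 A ∧ A ≤ O ∧ MinOff (E i j) A ∧
      A ≤ centralizer (N i : Set G) ∧ A ≤ centralizer (N j : Set G)) → (IsElementaryAbelian 2 (cj g A) ∧ cj g A ≤ O ∧
        MinOff (E i j) (cj g A) ∧ cj g A ≤ centralizer (N i : Set G) ∧ cj g A ≤ centralizer (N j : Set G)) := by
    intro i j hij g hg A hA
    obtain ⟨h1, h2, h3, h4⟩ := h.cj_cent hij hA.1 (le_inf hA.2.1 hA.2.2.2.1) hA.2.2.1 hA.2.2.2.2 hg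
    exact ⟨h1, h2.trans inf_le_left, h3, h2.trans inf_le_right, h4⟩
  have h1 : D ≤ normalizer ((sSup s : Subgroup G) : Set G) := by
    refine le_normalizer_sSup fun g hg A hA => ?_
    refine ⟨isElementaryAbelian_cj g hA.1, ?_, minOff_cj hA.2.2.1 (h.DE i j hij hg), ?_, ?_⟩
    · have := cj_mono g hA.2.1
      rwa [cj_eq_of_mem_normalizer (h.nO hg)] at this
    · have := cj_mono g hA.2.2.2.1
      rwa [cj_centralizer, cj_eq_of_mem_normalizer (h.nN i hg)] at this
    · have := cj_mono g hA.2.2.2.2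
      rwa [cj_centralizer, cj_eq_of_mem_normalizer (h.nN j hg)] at this
  have h2 : L i ≤ normalizer ((sSup s : Subgroup G) : Set G) := le_normalizer_sSup fun g hg A hA => hL hij g hg A hA
  have h3 : L j ≤ normalizer ((sSup s : Subgroup G) : Set G) := by
    refine le_normalizer_sSup fun g hg A hA => ?_
    have hA' := hA.2.2.1
    rw [h.symm i j] at hA'
    obtain ⟨e1, e2, e3, e4, e5⟩ := hL hij.symm g hg A ⟨hA.1, hA.2.1, hA', hA.2.2.2.2, hA.2.2.2.1⟩
    rw [← h.symm i j] at e3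
    exact ⟨e1, e2, e3, e5, e4⟩
  have hcn : ∀ {U : Subgroup G}, normalizer (U : Set G) ≤
      normalizer ((centralizer (U : Set G) : Subgroup G) : Set G) := by
    intro U
    refine le_normalizer_of_cj fun g hg => ?_
    rw [cj_centralizer, cj_eq_of_mem_normalizer hg]
  have h4 := h.minE i j hij (centralizer ((sSup s : Subgroup G) : Set G))
    (fun l => comm_symm (hle.trans (h.Oz l))) (h1.trans hcn) (h2.trans hcn) (h3.trans hcn)
  exact hm.mov ((le_sSup hFs).trans (comm_symm h4))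

/-- (3) -/
theorem flat {i j : ι} (hij : i ≠ j) {A : Subgroup G} (hA : A ∈ AA (QQ O N i)) :
    A ⊓ centralizer (X i j : Set G) ≤ centralizer (N j : Set G) := by
  by_contra hc
  have hAO := h.AA_le hA
  have hXE : X i j ≤ E i j := (h.XN i j hij).trans (h.NE i j hij)
  have h1 : Offd (E i j) (A ⊓ centralizer (X i j : Set G)) := by
    refine offd_inf (hAO.2.1.trans (h.OD.trans (h.DE i j hij))) (le_of_mem (h.eE i j hij) (h.EO i j hij) hAO) hXE
      (h.noX i j hij A hAO.1 hAO.2.1) fun hc' => hc (hc'.trans (centralizer_le (h.NE i j hij)))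
  obtain ⟨F, hFB, hF⟩ := h1.exists_min
  have hFA : F ≤ A := hFB.trans inf_le_left
  have hFe : IsElementaryAbelian 2 F := eab_mono hAO.1 hFA
  have hFO : F ≤ O := hFA.trans hAO.2.1
  have h2 := h.kl i j hij F hFe (hFA.trans hA.2.1) hF (hFB.trans inf_le_right)
  exact h.empty hij hFe hFO hF (hFA.trans (hA.2.1.trans inf_le_right)) h2

/-- **THEOREM EXN.** -/
theorem exn [Finite ι] (hO : ∃ x ∈ O, x ≠ 1 ∧ x ^ 2 = 1) : ∃ U : Subgroup G, U ≠ ⊥ ∧ U ≤ O ∧
    D ≤ normalizer (U : Set G) ∧ ∀ i, L i ≤ normalizer (U : Set G) :=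
  h.toSit.exn hO fun _ _ hij _ hA => h.flat hij hA

end BigW

end Cfsg.Agent.Omega.EXN
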